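import Mathlib

/-!
# Transport of a semilinear description to a field living in `Type`

If `V ≃+ R` for a finite commutative domain `R` (any universe) and every `act g` is of the shape
`x ↦ a * σ x` in `R`-coordinates, the same holds for a field `F : Type` (a shrunk copy of `R`).
-/

set_option autoImplicit false

namespace Cfsg.Agent.Lib.Helper5.GL1

universe u v w

theorem transport {V : Type v} [AddCommGroup V] {R : Type w} [CommRing R] [IsDomain R] [Finite R]
    {G : Type u} (act : G → V → V) (e : V ≃+ R)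
    (h : ∀ g : G, ∃ (a : R) (σ : R ≃+* R), ∀ v, e (act g v) = a * σ (e v)) :
    ∃ (F : Type) (_ : Field F) (_ : Fintype F) (e' : V ≃+ F),
      ∀ g : G, ∃ (a : F) (σ : F ≃+* F), ∀ v, e' (act g v) = a * σ (e' v) := by
  classical
  have : Fintype R := Fintype.ofFinite R
  have : Small.{0} R := inferInstance
  let ψ : R ≃+* Shrink.{0} R := (Shrink.ringEquiv R).symm
  have : Fintype (Shrink.{0} R) := Fintype.ofEquiv R (equivShrink R)
  refine ⟨Shrink.{0} R, Fintype.fieldOfDomain (Shrink.{0} R), inferInstance,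
    e.trans ψ.toAddEquiv, ?_⟩
  intro g
  obtain ⟨a, σ, hσ⟩ := h g
  refine ⟨ψ a, (ψ.symm.trans σ).trans ψ, ?_⟩
  intro v
  show ψ (e (act g v)) = ψ a * ψ (σ (ψ.symm (ψ (e v))))
  rw [hσ v, map_mul, RingEquiv.symm_apply_apply]

end Cfsg.Agent.Lib.Helper5.GL1
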