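import Mathlib
import Cfsg.Agent.Lib.Helper5.GL1.Transport

/-!
# A linear group with an irreducible abelian normal subgroup is semilinear of dimension one

`gammaL1`: `ρ : G →* (V ≃ₗ[ZMod q] V)`, `A ⊴ G` abelian, no proper non-zero `ρ(A)`-invariant
submodule.  Then `V` carries the structure of a finite field `F` such that every `ρ g` is
`x ↦ a * σ x` with `a ∈ F`, `σ ∈ Aut F`.
-/

set_option autoImplicit false

namespace Cfsg.Agent.Lib.Helper5.GL1

universe u v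

section core

variable {k : Type*} [Field k] {V : Type v} [AddCommGroup V] [Module k V]

/-- the endomorphism attached to a linear automorphism -/
abbrev toEnd (f : V ≃ₗ[k] V) : Module.End k V := (f : V →ₗ[k] V)

theorem toEnd_apply (f : V ≃ₗ[k] V) (v : V) : toEnd f v = f v := rfl

theorem toEnd_mul (f g : V ≃ₗ[k] V) : toEnd (f * g) = toEnd f * toEnd g := by
  ext v; rfl

theorem toEnd_one : toEnd (1 : V ≃ₗ[k] V) = 1 := by
  ext v; rfl

end core

section main

variable (q : ℕ) [Fact q.Prime] {V : Type v} [AddCommGroup V] [Module (ZMod q) V] [Finite V]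
  [Nontrivial V] {G : Type u} [Group G] (ρ : G →* (V ≃ₗ[ZMod q] V))

/-- the generating set: the endomorphisms `ρ a`, `a ∈ A` -/
def genSet (A : Subgroup G) : Set (Module.End (ZMod q) V) :=
  {f | ∃ a ∈ A, f = toEnd (ρ a)}

theorem genSet_comm (A : Subgroup G) (hAc : ∀ a ∈ A, ∀ b ∈ A, a * b = b * a) :
    ∀ x ∈ genSet q ρ A, ∀ y ∈ genSet q ρ A, x * y = y * x := by
  rintro x ⟨a, ha, rfl⟩ y ⟨b, hb, rfl⟩
  rw [← toEnd_mul, ← toEnd_mul, ← map_mul, ← map_mul, hAc a ha b hb]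


theorem toEnd_inv_mul (g : G) : toEnd (ρ g⁻¹) * toEnd (ρ g) = 1 := by
  rw [← toEnd_mul, ← map_mul, inv_mul_cancel, map_one, toEnd_one]

theorem toEnd_mul_inv (g : G) : toEnd (ρ g) * toEnd (ρ g⁻¹) = 1 := by
  rw [← toEnd_mul, ← map_mul, mul_inv_cancel, map_one, toEnd_one]

theorem conj_cancel (g : G) (z : Module.End (ZMod q) V) :
    toEnd (ρ g⁻¹) * (toEnd (ρ g) * z * toEnd (ρ g⁻¹)) * toEnd (ρ g) = z := by
  calc toEnd (ρ g⁻¹) * (toEnd (ρ g) * z * toEnd (ρ g⁻¹)) * toEnd (ρ g)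
      = (toEnd (ρ g⁻¹) * toEnd (ρ g)) * z * (toEnd (ρ g⁻¹) * toEnd (ρ g)) := by
        simp only [mul_assoc]
    _ = z := by rw [toEnd_inv_mul, one_mul, mul_one]

theorem conj_mul (g : G) (x y : Module.End (ZMod q) V) :
    toEnd (ρ g) * (x * y) * toEnd (ρ g⁻¹)
      = (toEnd (ρ g) * x * toEnd (ρ g⁻¹)) * (toEnd (ρ g) * y * toEnd (ρ g⁻¹)) := by
  calc toEnd (ρ g) * (x * y) * toEnd (ρ g⁻¹)
      = toEnd (ρ g) * x * 1 * y * toEnd (ρ g⁻¹) := by simp only [mul_one, mul_assoc]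
    _ = toEnd (ρ g) * x * (toEnd (ρ g⁻¹) * toEnd (ρ g)) * y * toEnd (ρ g⁻¹) := by
        rw [toEnd_inv_mul]
    _ = _ := by simp only [mul_assoc]

/-- conjugation by `ρ g` preserves the algebra generated by `ρ(A)` when `A` is normal -/
theorem conj_mem_adjoin (A : Subgroup G) (hAn : A.Normal) (g : G) (f : Module.End (ZMod q) V)
    (hf : f ∈ Algebra.adjoin (ZMod q) (genSet q ρ A)) :
    toEnd (ρ g) * f * toEnd (ρ g⁻¹) ∈ Algebra.adjoin (ZMod q) (genSet q ρ A) := by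
  induction hf using Algebra.adjoin_induction with
  | mem x hx =>
    obtain ⟨a, ha, rfl⟩ := hx
    have h1 : toEnd (ρ g) * toEnd (ρ a) * toEnd (ρ g⁻¹) = toEnd (ρ (g * a * g⁻¹)) := by
      rw [map_mul, map_mul, toEnd_mul, toEnd_mul]
    rw [h1]
    exact Algebra.subset_adjoin ⟨_, hAn.conj_mem a ha g, rfl⟩
  | algebraMap c =>
    have h1 : toEnd (ρ g) * algebraMap (ZMod q) (Module.End (ZMod q) V) c * toEnd (ρ g⁻¹)
        = algebraMap (ZMod q) (Module.End (ZMod q) V) c := by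
      rw [← Algebra.commutes, mul_assoc, toEnd_mul_inv, mul_one]
    rw [h1]
    exact Subalgebra.algebraMap_mem _ c
  | add x y hx hy ihx ihy =>
    rw [mul_add, add_mul]
    exact Subalgebra.add_mem _ ihx ihy
  | mul x y hx hy ihx ihy =>
    rw [conj_mul]
    exact Subalgebra.mul_mem _ ihx ihy

theorem gammaL1 (A : Subgroup G) (hAn : A.Normal) (hAc : ∀ a ∈ A, ∀ b ∈ A, a * b = b * a)
    (hirr : ¬ ∃ W : Submodule (ZMod q) V, W ≠ ⊥ ∧ W ≠ ⊤ ∧ ∀ a ∈ A, ∀ v ∈ W, ρ a v ∈ W) :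
    ∃ (F : Type) (_ : Field F) (_ : Fintype F) (e : V ≃+ F),
      ∀ g : G, ∃ (a : F) (σ : F ≃+* F), ∀ v : V, e (ρ g v) = a * σ (e v) := by
  classical
  have hS := genSet_comm q ρ A hAc
  let R : Subalgebra (ZMod q) (Module.End (ZMod q) V) := Algebra.adjoin (ZMod q) (genSet q ρ A)
  letI : CommRing R := Algebra.adjoinCommRingOfComm (ZMod q) hS
  have hirr' : ∀ W : Submodule (ZMod q) V, (∀ a ∈ A, ∀ v ∈ W, ρ a v ∈ W) → W = ⊥ ∨ W = ⊤ := by
    intro W hW
    by_contra hcon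
    exact hirr ⟨W, fun h => hcon (Or.inl h), fun h => hcon (Or.inr h), hW⟩
  have hgen : ∀ a ∈ A, toEnd (ρ a) ∈ R := fun a ha => Algebra.subset_adjoin ⟨a, ha, rfl⟩
  have hcommR : ∀ x ∈ R, ∀ y ∈ R, x * y = y * x := by
    intro x hx y hy
    have := mul_comm (⟨x, hx⟩ : R) ⟨y, hy⟩
    exact congrArg Subtype.val this
  have hinj : ∀ r ∈ R, r ≠ 0 → Function.Injective r := by
    intro r hr hr0
    have hker : ∀ a ∈ A, ∀ v ∈ LinearMap.ker r, ρ a v ∈ LinearMap.ker r := by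
      intro a ha v hv
      rw [LinearMap.mem_ker] at hv ⊢
      have h1 : r (ρ a v) = (r * toEnd (ρ a)) v := rfl
      rw [h1, hcommR r hr _ (hgen a ha)]
      show (ρ a) (r v) = 0
      rw [hv, map_zero]
    rcases hirr' _ hker with h | h
    · exact LinearMap.ker_eq_bot.mp h
    · exact absurd (LinearMap.ker_eq_top.mp h) hr0
  haveI : Finite (Module.End (ZMod q) V) :=
    Finite.of_injective (fun f => (f : V → V)) DFunLike.coe_injective
  obtain ⟨v₀, hv₀⟩ := exists_ne (0 : V)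
  haveI : Nontrivial R := by
    refine ⟨0, 1, fun h => hv₀ ?_⟩
    have h2 : ((0 : R) : Module.End (ZMod q) V) v₀ = ((1 : R) : Module.End (ZMod q) V) v₀ := by
      rw [h]
    exact h2.symm
  haveI : NoZeroDivisors R := ⟨by
    intro x y hxy
    by_contra hcon
    have hcon := not_or.mp hcon
    have hy : Function.Injective (y : Module.End (ZMod q) V) :=
      hinj y y.2 (fun h => hcon.2 (Subtype.ext h))
    have hys : Function.Surjective (y : Module.End (ZMod q) V) :=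
      Finite.injective_iff_surjective.mp hy
    apply hcon.1
    apply Subtype.ext
    apply LinearMap.ext
    intro v
    obtain ⟨w, rfl⟩ := hys v
    have h2 : ((x * y : R) : Module.End (ZMod q) V) w = ((0 : R) : Module.End (ZMod q) V) w := by
      rw [hxy]
    exact h2⟩
  haveI : IsDomain R := NoZeroDivisors.to_isDomain R
  haveI : Finite R := Subtype.finite
  -- evaluation at `v₀`
  let ev : R →+ V :=
    { toFun := fun r => (r : Module.End (ZMod q) V) v₀
      map_zero' := rfl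
      map_add' := fun _ _ => rfl }
  have hev_inj : Function.Injective ev := by
    rw [injective_iff_map_eq_zero]
    intro r hr
    by_contra hr0
    have h1 := hinj r r.2 (fun h => hr0 (Subtype.ext h))
    have h2 : (r : Module.End (ZMod q) V) v₀ = (r : Module.End (ZMod q) V) 0 := by
      rw [map_zero]; exact hr
    exact hv₀ (h1 h2)
  let W0 : Submodule (ZMod q) V :=
    { carrier := {v | ∃ r : R, (r : Module.End (ZMod q) V) v₀ = v}
      zero_mem' := ⟨0, rfl⟩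
      add_mem' := by
        rintro _ _ ⟨r, rfl⟩ ⟨s, rfl⟩
        exact ⟨r + s, rfl⟩
      smul_mem' := by
        rintro c _ ⟨r, rfl⟩
        exact ⟨c • r, rfl⟩ }
  have hW0inv : ∀ a ∈ A, ∀ v ∈ W0, ρ a v ∈ W0 := by
    rintro a ha _ ⟨r, rfl⟩
    exact ⟨⟨toEnd (ρ a), hgen a ha⟩ * r, rfl⟩
  have hW0top : W0 = ⊤ := by
    rcases hirr' W0 hW0inv with h | h
    · exfalso
      have hv : v₀ ∈ W0 := ⟨1, rfl⟩
      rw [h, Submodule.mem_bot] at hv
      exact hv₀ hv
    · exact h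
  have hev_surj : Function.Surjective ev := by
    intro v
    have hv : v ∈ W0 := by rw [hW0top]; exact Submodule.mem_top
    obtain ⟨r, hr⟩ := hv
    exact ⟨r, hr⟩
  let e : V ≃+ R := (AddEquiv.ofBijective ev ⟨hev_inj, hev_surj⟩).symm
  have he : ∀ (v : V) (r : R), e v = r ↔ v = (r : Module.End (ZMod q) V) v₀ := by
    intro v r
    rw [AddEquiv.symm_apply_eq]
    rfl
  refine transport (fun g v => ρ g v) e ?_
  intro g
  -- the ring automorphism induced by conjugation with `ρ g`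
  let σ₀ : R →+* R :=
    { toFun := fun r => ⟨toEnd (ρ g) * r * toEnd (ρ g⁻¹), conj_mem_adjoin q ρ A hAn g r r.2⟩
      map_one' := Subtype.ext (by
        show toEnd (ρ g) * ((1 : R) : Module.End (ZMod q) V) * toEnd (ρ g⁻¹) = 1
        rw [show ((1 : R) : Module.End (ZMod q) V) = 1 from rfl, mul_one, toEnd_mul_inv])
      map_mul' := fun x y => Subtype.ext (conj_mul q ρ g x y)
      map_zero' := Subtype.ext (by
        show toEnd (ρ g) * ((0 : R) : Module.End (ZMod q) V) * toEnd (ρ g⁻¹) = 0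
        rw [show ((0 : R) : Module.End (ZMod q) V) = 0 from rfl, mul_zero, zero_mul])
      map_add' := fun x y => Subtype.ext (by
        show toEnd (ρ g) * ((x + y : R) : Module.End (ZMod q) V) * toEnd (ρ g⁻¹)
          = toEnd (ρ g) * x * toEnd (ρ g⁻¹) + toEnd (ρ g) * y * toEnd (ρ g⁻¹)
        rw [show ((x + y : R) : Module.End (ZMod q) V) = x + y from rfl, mul_add, add_mul]) }
  have hσinj : Function.Injective σ₀ := by
    intro x y hxy
    have h1 : toEnd (ρ g) * (x : Module.End (ZMod q) V) * toEnd (ρ g⁻¹)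
        = toEnd (ρ g) * y * toEnd (ρ g⁻¹) := congrArg Subtype.val hxy
    have h2 := congrArg (fun z => toEnd (ρ g⁻¹) * z * toEnd (ρ g)) h1
    simp only [conj_cancel] at h2
    exact Subtype.ext h2
  have hσbij : Function.Bijective σ₀ := ⟨hσinj, Finite.injective_iff_surjective.mp hσinj⟩
  refine ⟨e (ρ g v₀), RingEquiv.ofBijective σ₀ hσbij, ?_⟩
  intro v
  show e (ρ g v) = e (ρ g v₀) * σ₀ (e v)
  rw [he, mul_comm]
  have ha : ρ g v₀ = ((e (ρ g v₀) : R) : Module.End (ZMod q) V) v₀ := (he _ _).mp rfl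
  have hv : v = ((e v : R) : Module.End (ZMod q) V) v₀ := (he _ _).mp rfl
  show ρ g v = (toEnd (ρ g) * ((e v : R) : Module.End (ZMod q) V) * toEnd (ρ g⁻¹))
    (((e (ρ g v₀) : R) : Module.End (ZMod q) V) v₀)
  rw [← ha]
  show ρ g v = ρ g (((e v : R) : Module.End (ZMod q) V) ((ρ g⁻¹) (ρ g v₀)))
  have h3 : (ρ g⁻¹) (ρ g v₀) = v₀ := by
    rw [← LinearEquiv.mul_apply, ← map_mul, inv_mul_cancel, map_one]; rfl
  rw [h3, ← hv]


/-- `gammaL1` for a commutative normal subgroup (typeclass form) -/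
theorem gammaL1_comm (A : Subgroup G) (hAn : A.Normal) (hA : IsMulCommutative A)
    (hirr : ¬ ∃ W : Submodule (ZMod q) V, W ≠ ⊥ ∧ W ≠ ⊤ ∧ ∀ a ∈ A, ∀ v ∈ W, ρ a v ∈ W) :
    ∃ (F : Type) (_ : Field F) (_ : Fintype F) (e : V ≃+ F),
      ∀ g : G, ∃ (a : F) (σ : F ≃+* F), ∀ v : V, e (ρ g v) = a * σ (e v) := by
  refine gammaL1 q ρ A hAn ?_ hirr
  intro a ha b hb
  have h := hA.is_comm.comm (⟨a, ha⟩ : A) ⟨b, hb⟩
  exact congrArg Subtype.val h

/-- `gammaL1` for a cyclic normal subgroup -/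
theorem gammaL1_cyclic (A : Subgroup G) (hAn : A.Normal) (hA : IsCyclic A)
    (hirr : ¬ ∃ W : Submodule (ZMod q) V, W ≠ ⊥ ∧ W ≠ ⊤ ∧ ∀ a ∈ A, ∀ v ∈ W, ρ a v ∈ W) :
    ∃ (F : Type) (_ : Field F) (_ : Fintype F) (e : V ≃+ F),
      ∀ g : G, ∃ (a : F) (σ : F ≃+* F), ∀ v : V, e (ρ g v) = a * σ (e v) := by
  refine gammaL1 q ρ A hAn ?_ hirr
  intro a ha b hb
  have h := (IsCyclic.commGroup (α := A)).mul_comm ⟨a, ha⟩ ⟨b, hb⟩
  exact congrArg Subtype.val h

/-- the hypothesis `hGL` of `S3361L.front_P1`, verbatim -/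
theorem hGL_holds : ∀ A : Subgroup G, A.Normal → IsCyclic A →
    (¬ ∃ W : Submodule (ZMod q) V, W ≠ ⊥ ∧ W ≠ ⊤ ∧ ∀ a ∈ A, ∀ v ∈ W, ρ a v ∈ W) →
    ∃ (F : Type) (_ : Field F) (_ : Fintype F) (e : V ≃+ F),
      ∀ g : G, ∃ (a : F) (σ : F ≃+* F), ∀ v : V, e (ρ g v) = a * σ (e v) :=
  fun A hAn hA hirr => gammaL1_cyclic q ρ A hAn hA hirr

end main

end Cfsg.Agent.Lib.Helper5.GL1
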